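import Mathlib.RingTheory.TotallySplit
import Mathlib.RingTheory.Etale.Pi
import Mathlib.RingTheory.Idempotents
import Mathlib.RingTheory.Finiteness.ModuleFinitePresentation
import Mathlib.RingTheory.Spectrum.Prime.FreeLocus

/-!
Over a ring with connected spectrum a finite étale algebra is split by a finite étale faithfully flat
algebra whose spectrum is again connected.
-/

set_option autoImplicit false
set_option linter.style.haveILetI false
set_option linter.unusedSectionVars false

universe u

open TensorProduct

namespace Groth.Agent.MultFinLib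

theorem idempotent_eq_zero_or_one {R : Type u} [CommRing R] [PreconnectedSpace (PrimeSpectrum R)] {e : R}
    (he : IsIdempotentElem e) : e = 0 ∨ e = 1 := by
  classical
  let s := PrimeSpectrum.isIdempotentElemEquivClopens (R := R) ⟨e, he⟩
  rcases isClopen_iff.1 s.isClopen with h | h
  · left
    have hs : s = ⊥ := TopologicalSpace.Clopens.ext h
    have := congrArg Subtype.val (congrArg PrimeSpectrum.isIdempotentElemEquivClopens.symm hs)
    rw [OrderIso.symm_apply_apply, PrimeSpectrum.isIdempotentElemEquivClopens_symm_bot] at this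
    exact this
  · right
    have hs : s = ⊤ := TopologicalSpace.Clopens.ext h
    have := congrArg Subtype.val (congrArg PrimeSpectrum.isIdempotentElemEquivClopens.symm hs)
    rw [OrderIso.symm_apply_apply, PrimeSpectrum.isIdempotentElemEquivClopens_symm_top] at this
    exact this

theorem preconnected_of_idempotents {R : Type u} [CommRing R]
    (h : ∀ e : R, IsIdempotentElem e → e = 0 ∨ e = 1) : PreconnectedSpace (PrimeSpectrum R) := by
  refine preconnectedSpace_iff_clopen.2 fun s hs => ?_
  obtain ⟨e, he, rfl⟩ := PrimeSpectrum.exists_idempotent_basicOpen_eq_of_isClopen hs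
  rcases h e he with rfl | rfl
  · left; simp
  · right; simp

variable (R : Type u) [CommRing R]

/-- The quotient by an idempotent of a finite étale algebra is finite étale. -/
theorem etale_quotient_idempotent (S : Type u) [CommRing S] [Algebra R S] [Algebra.Etale R S] {e : S}
    (he : IsIdempotentElem e) : Algebra.Etale R (S ⧸ Ideal.span {e}) := by
  haveI : IsLocalization.Away (1 - e) (S ⧸ Ideal.span {e}) :=
    IsLocalization.away_of_isIdempotentElem he.one_sub (by
      rw [show (1 : S) - (1 - e) = e by ring]
      exact Ideal.mk_ker) Ideal.Quotient.mk_surjective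
  haveI : Algebra.Etale S (S ⧸ Ideal.span {e}) := Algebra.Etale.of_isLocalizationAway (1 - e)
  exact Algebra.Etale.comp R S _

variable {R}

theorem rank_const [PreconnectedSpace (PrimeSpectrum R)] (M : Type u) [AddCommGroup M] [Module R M]
    [Module.FinitePresentation R M] [Module.Flat R M] (p₀ : PrimeSpectrum R) :
    Module.rankAtStalk (R := R) M = (Module.rankAtStalk (R := R) M p₀ : ℕ) := by
  funext p
  exact Module.isLocallyConstant_rankAtStalk.apply_eq_of_preconnectedSpace p p₀

/-- A finite étale algebra has a finite étale quotient with connected spectrum. -/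
theorem exists_connected_quotient [PreconnectedSpace (PrimeSpectrum R)] [Nontrivial R]
    (T : Type u) [CommRing T] [Algebra R T] [Algebra.Etale R T] [Module.Finite R T] [Nontrivial T] :
    ∃ (S : Type u) (_ : CommRing S) (_ : Algebra R S) (_ : T →ₐ[R] S),
      Algebra.Etale R S ∧ Module.Finite R S ∧ Module.FaithfullyFlat R S ∧ Nontrivial S ∧
        PreconnectedSpace (PrimeSpectrum S) := by
  classical
  obtain ⟨p₀⟩ : Nonempty (PrimeSpectrum R) := inferInstance
  let P : ℕ → Prop := fun n => ∃ (S : Type u) (_ : CommRing S) (_ : Algebra R S) (_ : T →ₐ[R] S),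
      Algebra.Etale R S ∧ Module.Finite R S ∧ Nontrivial S ∧ Module.rankAtStalk (R := R) S p₀ = n
  have hP : ∃ n, P n := ⟨_, T, inferInstance, inferInstance, AlgHom.id R T, inferInstance, inferInstance,
    inferInstance, rfl⟩
  obtain ⟨S, _, _, g, _, _, _, hn⟩ := Nat.find_spec hP
  have hproj : Module.FinitePresentation R S := Module.FinitePresentation.of_finite_of_finitePresentation _ _
  have hff : Module.FaithfullyFlat R S := by
    refine Module.FaithfullyFlat.of_comap_surjective ((PrimeSpectrum.rankAtStalk_pos_iff_comap_surjective).1 fun p => ?_)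
    rw [Nat.pos_iff_ne_zero]
    intro h0
    have h1 : Module.rankAtStalk (R := R) S = 0 := by
      rw [rank_const S p]
      funext q
      simp [h0]
    exact not_subsingleton S (Module.rankAtStalk_eq_zero_iff_subsingleton.1 h1)
  refine ⟨S, inferInstance, inferInstance, g, inferInstance, inferInstance, hff, inferInstance,
    preconnected_of_idempotents fun e he => ?_⟩
  by_contra! hcon
  obtain ⟨h0, h1⟩ := hcon
  let Q₁ := S ⧸ Ideal.span {e}
  let Q₂ := S ⧸ Ideal.span {1 - e}
  haveI : Algebra.Etale R Q₁ := etale_quotient_idempotent R S he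
  haveI : Algebra.Etale R Q₂ := etale_quotient_idempotent R S he.one_sub
  haveI : Module.Finite R Q₁ := Module.Finite.trans S Q₁
  haveI : Module.Finite R Q₂ := Module.Finite.trans S Q₂
  haveI : Module.FinitePresentation R Q₁ := Module.FinitePresentation.of_finite_of_finitePresentation _ _
  haveI : Module.FinitePresentation R Q₂ := Module.FinitePresentation.of_finite_of_finitePresentation _ _
  haveI hQ₁ : Nontrivial Q₁ := Ideal.Quotient.nontrivial_iff.2 fun h => by
    obtain ⟨a, ha⟩ := Ideal.mem_span_singleton'.1 ((Ideal.eq_top_iff_one _).1 h)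
    exact h1 (by calc e = (a * e) * e := by rw [ha, one_mul]
      _ = a * e := by rw [mul_assoc, he]
      _ = 1 := ha)
  haveI hQ₂ : Nontrivial Q₂ := Ideal.Quotient.nontrivial_iff.2 fun h => by
    obtain ⟨a, ha⟩ := Ideal.mem_span_singleton'.1 ((Ideal.eq_top_iff_one _).1 h)
    exact h0 (by calc e = (a * (1 - e)) * e := by rw [ha, one_mul]
      _ = a * ((1 - e) * e) := by ring
      _ = 0 := by rw [sub_mul, one_mul, he, sub_self, mul_zero])
  let φ : S →ₐ[R] Q₁ × Q₂ := (Ideal.Quotient.mkₐ R _).prod (Ideal.Quotient.mkₐ R _)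
  have hφ : Function.Bijective φ := by
    refine ⟨(injective_iff_map_eq_zero φ).2 fun x hx => ?_, fun y => ?_⟩
    · obtain ⟨a, ha⟩ := Ideal.mem_span_singleton'.1 (Ideal.Quotient.eq_zero_iff_mem.1 (congrArg Prod.fst hx))
      obtain ⟨b, hb⟩ := Ideal.mem_span_singleton'.1 (Ideal.Quotient.eq_zero_iff_mem.1 (congrArg Prod.snd hx))
      calc x = x * e + x * (1 - e) := by ring
        _ = b * (1 - e) * e + a * e * (1 - e) := by rw [hb, ha]
        _ = (a + b) * (e - e * e) := by ring
        _ = 0 := by rw [he, sub_self, mul_zero]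
    · obtain ⟨y₁, hy₁⟩ := Ideal.Quotient.mk_surjective y.1
      obtain ⟨y₂, hy₂⟩ := Ideal.Quotient.mk_surjective y.2
      refine ⟨y₁ * (1 - e) + y₂ * e, Prod.ext ?_ ?_⟩
      · change Ideal.Quotient.mk (Ideal.span {e}) (y₁ * (1 - e) + y₂ * e) = y.1
        rw [← hy₁, Ideal.Quotient.eq, show y₁ * (1 - e) + y₂ * e - y₁ = (y₂ - y₁) * e by ring]
        exact Ideal.mul_mem_left _ _ (Ideal.subset_span rfl)
      · change Ideal.Quotient.mk (Ideal.span {1 - e}) (y₁ * (1 - e) + y₂ * e) = y.2
        rw [← hy₂, Ideal.Quotient.eq, show y₁ * (1 - e) + y₂ * e - y₂ = (y₁ - y₂) * (1 - e) by ring]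
        exact Ideal.mul_mem_left _ _ (Ideal.subset_span rfl)
  have hsum : Module.rankAtStalk (R := R) S p₀ =
      Module.rankAtStalk (R := R) Q₁ p₀ + Module.rankAtStalk (R := R) Q₂ p₀ := by
    rw [Module.rankAtStalk_eq_of_equiv (LinearEquiv.ofBijective φ.toLinearMap hφ), Module.rankAtStalk_prod]
    rfl
  have hpos : 0 < Module.rankAtStalk (R := R) Q₂ p₀ := by
    rw [Nat.pos_iff_ne_zero]
    intro hz
    refine not_subsingleton Q₂ ((Module.rankAtStalk_eq_zero_iff_subsingleton (R := R)).1 ?_)
    rw [rank_const Q₂ p₀]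
    funext q
    simp [hz]
  exact Nat.find_min hP (m := Module.rankAtStalk (R := R) Q₁ p₀) (by omega)
    ⟨Q₁, inferInstance, inferInstance, (Ideal.Quotient.mkₐ R _).comp g, inferInstance, inferInstance, hQ₁, rfl⟩

/-- A finite étale algebra over a ring with connected spectrum is split by a finite étale faithfully flat
algebra with connected spectrum. -/
theorem exists_connected_split [ConnectedSpace (PrimeSpectrum R)]
    (D : Type u) [CommRing D] [Algebra R D] [Algebra.Etale R D] [Module.Finite R D] :
    ∃ (S : Type u) (_ : CommRing S) (_ : Algebra R S),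
      Algebra.Etale R S ∧ Module.Finite R S ∧ Module.FaithfullyFlat R S ∧ Nontrivial S ∧
        PreconnectedSpace (PrimeSpectrum S) ∧ ∃ n : ℕ, Nonempty ((S ⊗[R] D) ≃ₐ[S] (Fin n → S)) := by
  obtain ⟨p₀⟩ : Nonempty (PrimeSpectrum R) := inferInstance
  haveI : Nontrivial R := PrimeSpectrum.nonempty_iff_nontrivial.1 ⟨p₀⟩
  haveI : Module.FinitePresentation R D := Module.FinitePresentation.of_finite_of_finitePresentation _ _
  obtain ⟨T, _, _, hff, _, _, hT⟩ :=
    Algebra.IsFiniteSplit.exists_tensorProduct_of_etale (R := R) (S := D) (rank_const D p₀)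
  haveI : Nontrivial T := (FaithfulSMul.algebraMap_injective R T).nontrivial
  obtain ⟨S, _, _, g, h1, h2, h3, h4, h5⟩ := exists_connected_quotient (R := R) T
  refine ⟨S, inferInstance, inferInstance, h1, h2, h3, h4, h5, ?_⟩
  letI : Algebra T S := g.toRingHom.toAlgebra
  haveI : IsScalarTower R T S := IsScalarTower.of_algebraMap_eq fun r => (g.commutes r).symm
  haveI : Algebra.IsFiniteSplit S (S ⊗[T] (T ⊗[R] D)) := inferInstance
  exact (Algebra.IsFiniteSplit.of_algEquiv (Algebra.TensorProduct.cancelBaseChange R T S S D)).nonempty_algEquiv_fun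

end Groth.Agent.MultFinLib
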