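import Groth.Agent.MultFinLib.Dual
import Groth.Agent.MultFinLib.Split
import Groth.Prelude.Def_SGA3b
import Mathlib.RingTheory.Bialgebra.Equiv

/-!
Diagonalisable finite Hopf algebras correspond to split duals.
-/

set_option autoImplicit false
set_option backward.isDefEq.respectTransparency false
set_option backward.isDefEq.respectTransparency.types false
set_option linter.unusedSectionVars false

universe u

open TensorProduct CartDual MonoidAlgebra

noncomputable section

namespace Groth.Agent.MultFinLib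

variable (R : Type u) [CommRing R] (A : Type u) [CommRing A] [HopfAlgebra R A] [Coalgebra.IsCocomm R A]
  [Module.Finite R A] [Module.Projective R A] (S : Type u) [CommRing S] [Algebra R S]

/-- A diagonalisation over `S` splits the dual over `S`. -/
theorem exists_split_of_equiv {M : Type u} [CommGroup M] (e : (S ⊗[R] A) ≃ₐc[S] MonoidAlgebra S M) :
    Nonempty ((S ⊗[R] D R A) ≃ₐ[S] (M → S)) := by
  classical
  let gl : M → GroupLike S (S ⊗[R] A) := fun m =>
    ⟨e.symm (single m 1), (MonoidAlgebra.isGroupLikeElem_single_one m).map e.symm⟩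
  let eL : MonoidAlgebra S M ≃ₗ[S] S ⊗[R] A := e.toAlgEquiv.symm.toLinearEquiv
  let b : Module.Basis M S (S ⊗[R] A) := (MonoidAlgebra.basis M S).map eL
  have hb : ∀ m, b m = (gl m).val := fun m => by
    rw [Module.Basis.map_apply, MonoidAlgebra.basis_apply]
    rfl
  let ψ : S ⊗[R] D R A →ₐ[S] (M → S) :=
    Algebra.TensorProduct.lift (Algebra.ofId S _)
      (Pi.algHom R (fun _ : M => S) fun m => charHom R A S (gl m)) fun _ _ => Commute.all _ _
  have hψ : ∀ z m, ψ z m = coev R A S z (b m) := fun z m => by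
    induction z using TensorProduct.induction_on with
    | zero => simp
    | add u v hu hv => simp only [map_add, Pi.add_apply, LinearMap.add_apply, hu, hv]
    | tmul s x =>
      rw [coev_tmul, hb, ← charHom_apply]
      simp [ψ]
  refine ⟨AlgEquiv.ofBijective ψ ⟨fun z w h => coev_injective R A S (b.ext fun m => ?_), fun c => ?_⟩⟩
  · rw [← hψ, ← hψ, h]
  · obtain ⟨z, hz⟩ := coev_surjective R A S (b.constr S c)
    exact ⟨z, funext fun m => by rw [hψ, hz, Module.Basis.constr_basis]⟩

/-- A splitting of the dual over a connected ring diagonalises. -/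
theorem isDiag_of_split [Nontrivial S] [PreconnectedSpace (PrimeSpectrum S)] {n : ℕ}
    (e : (S ⊗[R] D R A) ≃ₐ[S] (Fin n → S)) : SGA3b.IsDiag S (S ⊗[R] A) := by
  classical
  let φ : Fin n → (D R A →ₐ[R] S) := fun i =>
    ((Pi.evalAlgHom S (fun _ : Fin n => S) i).comp e.toAlgHom).restrictScalars R |>.comp
      Algebra.TensorProduct.includeRight
  have hφ : ∀ i x, φ i x = e ((1 : S) ⊗ₜ x) i := fun _ _ => rfl
  choose g hg using fun i => (charHom_bijective R A S).2 (φ i)
  have hev : ∀ i x, ev R A S (g i).val x = e ((1 : S) ⊗ₜ x) i := fun i x => by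
    rw [← charHom_apply, hg, hφ]
  let Φ : (Fin n → S) →ₗ[S] S ⊗[R] A :=
    ∑ i, (LinearMap.proj i : (Fin n → S) →ₗ[S] S).smulRight (g i).val
  have hΦ : ∀ c, Φ c = ∑ i, c i • (g i).val := fun c => by simp [Φ]
  have hevΦ : ∀ c x, ev R A S (Φ c) x = ∑ i, c i * e ((1 : S) ⊗ₜ x) i := fun c x => by
    rw [hΦ, map_sum, LinearMap.sum_apply]
    refine Finset.sum_congr rfl fun i _ => ?_
    rw [map_smul, LinearMap.smul_apply, smul_eq_mul, hev]
  have hsingle : ∀ (v : Fin n → S), v = ∑ i, v i • (Pi.single i (1 : S) : Fin n → S) := fun v => pi_eq_sum_univ' v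
  have hinj : Function.Injective Φ := by
    refine (injective_iff_map_eq_zero Φ).2 fun c hc => funext fun j => ?_
    have h0 : ∀ z, ∑ i, c i * e z i = 0 := fun z => by
      induction z using TensorProduct.induction_on with
      | zero => simp
      | add u v hu hv => simp only [map_add, Pi.add_apply, mul_add, Finset.sum_add_distrib, hu, hv, add_zero]
      | tmul s x =>
        rw [show s ⊗ₜ[R] x = s • ((1 : S) ⊗ₜ[R] x) by rw [TensorProduct.smul_tmul', smul_eq_mul, mul_one], map_smul]
        simp only [Pi.smul_apply, smul_eq_mul, mul_left_comm _ s]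
        rw [← Finset.mul_sum, ← hevΦ, hc, map_zero, LinearMap.zero_apply, mul_zero]
    simpa [Pi.single_apply] using h0 (e.symm (Pi.single j 1))
  have hsurj : Function.Surjective Φ := fun a => by
    let L : S ⊗[R] D R A →ₗ[S] S := LinearMap.liftBaseChange S (ev R A S a)
    refine ⟨fun i => L (e.symm (Pi.single i 1)), ev_injective R A S (LinearMap.ext fun x => ?_)⟩
    rw [hevΦ]
    have h1 : L ((1 : S) ⊗ₜ x) = ev R A S a x := by simp [L]
    rw [← h1]
    conv_rhs => rw [← e.symm_apply_apply ((1 : S) ⊗ₜ x), hsingle (e ((1 : S) ⊗ₜ x)), map_sum, map_sum]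
    refine Finset.sum_congr rfl fun i _ => ?_
    rw [map_smul, map_smul, smul_eq_mul, mul_comm]
  have hgb : Function.Bijective g := by
    refine ⟨fun i j h => ?_, fun h => ?_⟩
    · by_contra hij
      have := hinj (a₁ := Pi.single i 1) (a₂ := Pi.single j 1) (by
        rw [hΦ, hΦ]; simp [Pi.single_apply, h])
      have := congrFun this i
      simp [hij] at this
    let φ' : (Fin n → S) →ₐ[S] S := (Algebra.TensorProduct.lift (Algebra.ofId S S) (charHom R A S h)
      fun _ _ => Commute.all _ _).comp e.symm.toAlgHom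
    obtain ⟨i, hi⟩ : ∃ i, φ' (Pi.single i 1) = 1 := by
      by_contra! hcon
      have h1 : φ' 1 = 0 := by
        rw [hsingle 1, map_sum]
        refine Finset.sum_eq_zero fun i _ => ?_
        have hid : IsIdempotentElem (φ' (Pi.single i 1)) := by
          rw [IsIdempotentElem, ← map_mul, ← Pi.single_mul, mul_one]
        rw [Pi.one_apply, one_smul, (idempotent_eq_zero_or_one hid).resolve_right (hcon i)]
      rw [map_one] at h1
      exact one_ne_zero h1
    refine ⟨i, (charHom_bijective R A S).1 (AlgHom.ext fun x => ?_)⟩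
    rw [hg, hφ]
    have h2 : φ' (e ((1 : S) ⊗ₜ x)) = charHom R A S h x := by simp [φ']
    rw [← h2]
    have h3 : φ' (e ((1 : S) ⊗ₜ x)) = φ' (e ((1 : S) ⊗ₜ x) * Pi.single i 1) := by rw [map_mul, hi, mul_one]
    rw [h3, show e ((1 : S) ⊗ₜ x) * Pi.single i 1 = e ((1 : S) ⊗ₜ x) i • (Pi.single i (1 : S) : Fin n → S) from by
      funext j
      by_cases hj : j = i
      · subst hj; simp
      · simp [hj], map_smul, hi, smul_eq_mul, mul_one]
  let G := GroupLike S (S ⊗[R] A)
  let β : MonoidAlgebra S G →ₐc[S] S ⊗[R] A :=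
    BialgHom.ofAlgHom (MonoidAlgebra.lift S (S ⊗[R] A) G (GroupLike.valMonoidHom S (S ⊗[R] A)))
      (by ext m; simp [GroupLike.valMonoidHom, m.2.counit_eq_one])
      (by ext m; simp [GroupLike.valMonoidHom, m.2.comul_eq_tmul_self])
  let η : Fin n ≃ G := Equiv.ofBijective g hgb
  have hβ : (β : MonoidAlgebra S G → S ⊗[R] A) = Φ ∘ ((MonoidAlgebra.basis G S).reindex η.symm).equivFun := by
    have : (β : MonoidAlgebra S G →ₐ[S] S ⊗[R] A).toLinearMap =
        Φ ∘ₗ ((MonoidAlgebra.basis G S).reindex η.symm).equivFun.toLinearMap := by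
      refine ((MonoidAlgebra.basis G S).reindex η.symm).ext fun i => ?_
      rw [LinearMap.comp_apply, LinearEquiv.coe_coe, hΦ]
      simp [η, β, GroupLike.valMonoidHom, Module.Basis.equivFun_apply]
      rw [← MonoidAlgebra.basis_apply S (g i), Module.Basis.repr_self]
      simp [Finsupp.single_apply, hgb.1.eq_iff]
    exact funext fun z => LinearMap.congr_fun this z
  refine ⟨G, inferInstance, ⟨(BialgEquiv.ofBijective β ?_).symm⟩⟩
  rw [hβ]
  exact (Function.Bijective.comp ⟨hinj, hsurj⟩ (LinearEquiv.bijective _))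

end Groth.Agent.MultFinLib
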