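import Groth.Agent.CartDualLib.Basic
import Mathlib.RingTheory.HopfAlgebra.GroupLike
import Mathlib.RingTheory.Bialgebra.GroupLike

/-!
The pairing between a finite projective bialgebra and its dual after base change, over an arbitrary ring:
group-like elements are the algebra maps out of the dual, and a basis of group-like elements is the same as a
splitting of the dual algebra.
-/

set_option autoImplicit false
set_option backward.isDefEq.respectTransparency false
set_option backward.isDefEq.respectTransparency.types false
set_option linter.unusedSectionVars false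

universe u

open TensorProduct CartDual

noncomputable section

namespace Groth.Agent.MultFinLib

variable (R : Type u) [CommRing R] (A : Type u) [CommRing A] [HopfAlgebra R A] [Coalgebra.IsCocomm R A]
  [Module.Finite R A] [Module.Projective R A] (S : Type u) [CommRing S] [Algebra R S]

/-- The form on `S ⊗ A` given by an element of the dual. -/
def form (x : D R A) : S ⊗[R] A →ₗ[S] S :=
  (TensorProduct.AlgebraTensorModule.rid R S S).toLinearMap ∘ₗ
    TensorProduct.AlgebraTensorModule.lTensor S S (toDual R A x : A →ₗ[R] R)

theorem form_tmul (x : D R A) (s : S) (a : A) : form R A S x (s ⊗ₜ a) = x a • s := rfl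

/-- The pairing of `S ⊗ A` with the dual. -/
def ev : S ⊗[R] A →ₗ[S] (D R A →ₗ[R] S) where
  toFun g :=
    { toFun := fun x => form R A S x g
      map_add' := fun x y => by
        induction g using TensorProduct.induction_on with
        | zero => simp
        | add u v hu hv => simp only [map_add] at hu hv ⊢; rw [hu, hv]; abel
        | tmul s a => simp only [form_tmul]; exact add_smul (x a) (y a) s
      map_smul' := fun c x => by
        induction g using TensorProduct.induction_on with
        | zero => simp
        | add u v hu hv => simp only [RingHom.id_apply] at hu hv ⊢; simp only [map_add, hu, hv, smul_add]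
        | tmul s a => simp only [form_tmul, RingHom.id_apply]; exact mul_smul c (x a) s }
  map_add' g h := LinearMap.ext fun x => map_add (form R A S x) g h
  map_smul' t g := LinearMap.ext fun x => map_smul (form R A S x) t g

theorem ev_apply (g : S ⊗[R] A) (x : D R A) : ev R A S g x = form R A S x g := rfl

theorem ev_tmul (s : S) (a : A) (x : D R A) : ev R A S (s ⊗ₜ a) x = x a • s := rfl

theorem exists_coords : ∃ (n : ℕ) (a : Fin n → A) (f : Fin n → D R A),
    (∀ z : S ⊗[R] A, z = ∑ j, ev R A S z (f j) • (1 : S) ⊗ₜ[R] a j) ∧
    (∀ x : D R A, x = ∑ j, x (a j) • f j) := by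
  obtain ⟨n, a, f, h⟩ := VerschLib.exists_dualBasis R A
  refine ⟨n, a, fun j => WithConv.toConv (f j), fun z => ?_, fun x => ?_⟩
  · induction z using TensorProduct.induction_on with
    | zero => simp
    | add u v hu hv =>
      simp only [map_add, LinearMap.add_apply, add_smul, Finset.sum_add_distrib]
      rw [← hu, ← hv]
    | tmul s b =>
      conv_lhs => rw [← h b, TensorProduct.tmul_sum]
      refine Finset.sum_congr rfl fun j _ => ?_
      rw [ev_tmul, TensorProduct.smul_tmul', smul_eq_mul, mul_one, TensorProduct.tmul_smul, TensorProduct.smul_tmul']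
  · refine WithConv.ext (LinearMap.ext fun b => ?_)
    conv_lhs => rw [← h b, map_sum]
    rw [WithConv.ofConv_sum, LinearMap.sum_apply]
    refine Finset.sum_congr rfl fun j _ => ?_
    rw [map_smul, WithConv.ofConv_smul, LinearMap.smul_apply, smul_eq_mul, smul_eq_mul, mul_comm]

theorem ev_injective : Function.Injective (ev R A S) := by
  obtain ⟨n, a, f, hz, -⟩ := exists_coords R A S
  intro g h e
  rw [hz g, hz h, e]

theorem ev_surjective : Function.Surjective (ev R A S) := by
  obtain ⟨n, a, f, -, hx⟩ := exists_coords R A S
  intro L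
  refine ⟨∑ j, L (f j) • (1 : S) ⊗ₜ[R] a j, LinearMap.ext fun x => ?_⟩
  conv_rhs => rw [hx x, map_sum]
  rw [map_sum, LinearMap.sum_apply]
  refine Finset.sum_congr rfl fun j _ => ?_
  rw [map_smul, LinearMap.smul_apply, ev_tmul, map_smul, smul_eq_mul]
  exact Algebra.mul_smul_comm (x (a j)) (L (f j)) 1 |>.trans (by rw [mul_one])

/-- The form on the tensor square. -/
def form₂ (x y : D R A) : (S ⊗[R] A) ⊗[S] (S ⊗[R] A) →ₗ[S] S :=
  LinearMap.mul' S S ∘ₗ TensorProduct.map (form R A S x) (form R A S y)

theorem form₂_tmul (x y : D R A) (g h : S ⊗[R] A) :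
    form₂ R A S x y (g ⊗ₜ h) = ev R A S g x * ev R A S h y := rfl

theorem form₂_comul (x y : D R A) (g : S ⊗[R] A) :
    form₂ R A S x y (Coalgebra.comul (R := S) g) = ev R A S g (x * y) := by
  induction g using TensorProduct.induction_on with
  | zero => simp
  | add u v hu hv => simp only [map_add, LinearMap.add_apply, hu, hv]
  | tmul s a =>
    rw [TensorProduct.comul_tmul, CommSemiring.comul_apply, ev_tmul, CartDualLib.mul_apply_eq_ev₂]
    generalize Coalgebra.comul (R := R) a = X
    induction X using TensorProduct.induction_on with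
    | zero => simp
    | add u v hu hv => simp only [TensorProduct.tmul_add, map_add, hu, hv, add_smul]
    | tmul b c =>
      rw [TensorProduct.AlgebraTensorModule.tensorTensorTensorComm_tmul, form₂_tmul, ev_tmul, ev_tmul,
        CartDual.ev₂_tmul, smul_mul_smul_comm, one_mul]

theorem ev_one (g : S ⊗[R] A) : ev R A S g 1 = Coalgebra.counit (R := S) g := by
  induction g using TensorProduct.induction_on with
  | zero => simp
  | add u v hu hv => simp only [map_add, LinearMap.add_apply, hu, hv]
  | tmul s a =>
    rw [ev_tmul, TensorProduct.counit_tmul, CommSemiring.counit_apply, LinearMap.convOne_apply]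
    rfl

/-- A group-like element gives an algebra map out of the dual. -/
def charHom (g : GroupLike S (S ⊗[R] A)) : D R A →ₐ[R] S :=
  AlgHom.ofLinearMap (ev R A S g.val) (by rw [ev_one, g.2.counit_eq_one])
    (fun x y => by rw [← form₂_comul, g.2.comul_eq_tmul_self, form₂_tmul])

theorem charHom_apply (g : GroupLike S (S ⊗[R] A)) (x : D R A) : charHom R A S g x = ev R A S g.val x := rfl

theorem charHom_bijective : Function.Bijective (charHom R A S) := by
  obtain ⟨n, a, f, hz, hx⟩ := exists_coords R A S
  refine ⟨fun g h e => GroupLike.val_injective (ev_injective R A S (LinearMap.ext fun x => ?_)), fun φ => ?_⟩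
  · exact DFunLike.congr_fun e x
  obtain ⟨g, hg⟩ := ev_surjective R A S φ.toLinearMap
  have hgx : ∀ x, ev R A S g x = φ x := fun x => LinearMap.congr_fun hg x
  refine ⟨⟨g, ⟨by rw [← ev_one, hgx, map_one], ?_⟩⟩, AlgHom.ext fun x => hgx x⟩
  have key : ∀ z : (S ⊗[R] A) ⊗[S] (S ⊗[R] A),
      z = ∑ j, ∑ k, form₂ R A S (f j) (f k) z • (((1 : S) ⊗ₜ[R] a j) ⊗ₜ[S] ((1 : S) ⊗ₜ[R] a k)) := fun z => by
    induction z using TensorProduct.induction_on with
    | zero => simp
    | add u v hu hv =>
      simp only [map_add, add_smul, Finset.sum_add_distrib]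
      rw [← hu, ← hv]
    | tmul u v =>
      conv_lhs => rw [hz u, hz v, TensorProduct.sum_tmul]
      refine Finset.sum_congr rfl fun j _ => ?_
      rw [TensorProduct.tmul_sum]
      refine Finset.sum_congr rfl fun k _ => ?_
      rw [form₂_tmul, TensorProduct.smul_tmul_smul]
  rw [key (Coalgebra.comul (R := S) g), key (g ⊗ₜ[S] g)]
  simp only [form₂_comul, form₂_tmul, hgx, map_mul]

/-- The pairing of `S ⊗ D` with `S ⊗ A`, as forms on the latter. -/
def coev : S ⊗[R] D R A →ₗ[S] (S ⊗[R] A →ₗ[S] S) :=
  TensorProduct.AlgebraTensorModule.lift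
    ((LinearMap.ringLmapEquivSelf S S _).symm.toLinearMap
      ({ toFun := fun x => form R A S x
         map_add' := fun x y => LinearMap.ext fun g => map_add (ev R A S g) x y
         map_smul' := fun c x => LinearMap.ext fun g => map_smul (ev R A S g) c x } : D R A →ₗ[R] (S ⊗[R] A →ₗ[S] S)))

theorem coev_tmul (s : S) (x : D R A) (g : S ⊗[R] A) : coev R A S (s ⊗ₜ x) g = s * ev R A S g x := rfl

theorem coev_injective : Function.Injective (coev R A S) := by
  obtain ⟨n, a, f, -, hx⟩ := exists_coords R A S
  have key : ∀ z : S ⊗[R] D R A, z = ∑ j, coev R A S z ((1 : S) ⊗ₜ[R] a j) • (1 : S) ⊗ₜ[R] f j := fun z => by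
    induction z using TensorProduct.induction_on with
    | zero => simp
    | add u v hu hv =>
      simp only [map_add, LinearMap.add_apply, add_smul, Finset.sum_add_distrib]
      rw [← hu, ← hv]
    | tmul s x =>
      conv_lhs => rw [hx x, TensorProduct.tmul_sum]
      refine Finset.sum_congr rfl fun j _ => ?_
      rw [coev_tmul, ev_tmul, TensorProduct.smul_tmul', smul_eq_mul, mul_one, TensorProduct.tmul_smul,
        TensorProduct.smul_tmul']
      rw [Algebra.mul_smul_comm, mul_one]
  intro z w e
  rw [key z, key w, e]

theorem coev_surjective : Function.Surjective (coev R A S) := by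
  obtain ⟨n, a, f, hz, -⟩ := exists_coords R A S
  intro L
  refine ⟨∑ j, L ((1 : S) ⊗ₜ[R] a j) ⊗ₜ[R] f j, LinearMap.ext fun g => ?_⟩
  conv_rhs => rw [hz g, map_sum]
  rw [map_sum, LinearMap.sum_apply]
  refine Finset.sum_congr rfl fun j _ => ?_
  rw [coev_tmul, map_smul, smul_eq_mul, mul_comm]

end Groth.Agent.MultFinLib
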