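import Groth.Agent.MultFinLib.Basis
import Groth.Agent.MultType.Cocomm
import Groth.Agent.MultType.Cover
import Mathlib.RingTheory.Kaehler.TensorProduct
import Mathlib.RingTheory.Smooth.Fiber

/-!
A finite group of multiplicative type has an étale Cartier dual; an étale Cartier dual over a connected base
gives an isotrivial group.
-/

set_option autoImplicit false
set_option backward.isDefEq.respectTransparency false
set_option backward.isDefEq.respectTransparency.types false
set_option linter.unusedSectionVars false

universe u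

open TensorProduct CartDual SGA3b

noncomputable section

namespace Groth.Agent.MultFinLib

variable {R : Type u} [CommRing R] {A : Type u} [CommRing A] [HopfAlgebra R A]

theorem finite_of_equiv {S : Type u} [CommRing S] [Nontrivial S] [Algebra R S] [Module.Finite R A] {M : Type u}
    [CommGroup M] (e : (S ⊗[R] A) ≃ₐc[S] MonoidAlgebra S M) : Finite M := by
  haveI : Module.Finite S (MonoidAlgebra S M) := Module.Finite.equiv e.toAlgEquiv.toLinearEquiv
  exact Module.Finite.finite_basis (MonoidAlgebra.basis M S)

theorem projective_of_isMultType (hA : IsMultType R A) [Module.Finite R A] : Module.Projective R A := by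
  classical
  haveI : Module.Flat R A := MultType.flat_of_isMultType hA
  suffices Module.FinitePresentation R A from Module.Flat.projective_of_finitePresentation
  obtain ⟨s, hs, hc⟩ := MultType.exists_charts hA
  obtain ⟨t, hts, ht⟩ := Ideal.span_eq_top_iff_finite s |>.1 hs
  choose c hcf using fun f : t => hc f.1 (hts f.2)
  obtain ⟨n, π, hπ⟩ := Module.Finite.exists_fin' R A
  refine Module.finitePresentation_of_surjective π hπ ?_
  let K := LinearMap.ker π
  have hloc : ∀ i, ∃ K' : Submodule R K, K'.FG ∧
      Subsingleton ((c i).R' ⊗[R] (K ⧸ K')) := fun i => by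
    let T := (c i).R'
    let b : T ⊗[R] (Fin n → R) →ₗ[T] T ⊗[R] A := π.baseChange T
    let ι : T ⊗[R] K →ₗ[T] T ⊗[R] (Fin n → R) := K.subtype.baseChange T
    have hιinj : Function.Injective ι :=
      Module.Flat.lTensor_preserves_injective_linearMap (M := T) K.subtype K.injective_subtype
    have hex : Function.Exact ι b :=
      lTensor_exact T (LinearMap.exact_subtype_ker_map π) hπ
    haveI : Module.Free T (T ⊗[R] A) := Module.Free.of_equiv (c i).e.toAlgEquiv.symm.toLinearEquiv
    have hbs : Function.Surjective b := LinearMap.lTensor_surjective T hπ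
    obtain ⟨σ, hσ⟩ := Module.projective_lifting_property b LinearMap.id hbs
    have hσ' : ∀ y, b (σ y) = y := fun y => LinearMap.congr_fun hσ y
    haveI : Module.Finite T (T ⊗[R] K) := by
      let P : T ⊗[R] (Fin n → R) →ₗ[T] LinearMap.ker b :=
        (LinearMap.id - σ ∘ₗ b).codRestrict _ fun x => by simp [LinearMap.mem_ker, hσ']
      haveI : Module.Finite T (LinearMap.ker b) := Module.Finite.of_surjective P fun y => ⟨y.1, Subtype.ext (by
        simp [P, LinearMap.mem_ker.1 y.2])⟩
      have hr : LinearMap.range ι = LinearMap.ker b := (LinearMap.exact_iff.1 hex).symm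
      haveI : Module.Finite T (LinearMap.range ι) := by rw [hr]; infer_instance
      exact Module.Finite.equiv (LinearEquiv.ofInjective ι hιinj).symm
    obtain ⟨m, z, hz⟩ := Module.Finite.exists_fin (R := T) (M := T ⊗[R] K)
    choose k r x hx using fun j => TensorProduct.exists_sum_tmul_eq (z j)
    refine ⟨Submodule.span R (Set.range fun p : Σ j, Fin (k j) => x p.1 p.2), Submodule.fg_span (Set.finite_range _),
      ⟨fun u v => ?_⟩⟩
    suffices h : ∀ w : T ⊗[R] (K ⧸ Submodule.span R (Set.range fun p : Σ j, Fin (k j) => x p.1 p.2)), w = 0 by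
      rw [h u, h v]
    intro w
    let q := (Submodule.span R (Set.range fun p : Σ j, Fin (k j) => x p.1 p.2)).mkQ
    obtain ⟨w', rfl⟩ := LinearMap.lTensor_surjective T (Submodule.mkQ_surjective _ : Function.Surjective q) w
    have hw : w' ∈ (⊤ : Submodule T (T ⊗[R] K)) := trivial
    rw [← hz] at hw
    change q.baseChange T w' = 0
    induction hw using Submodule.span_induction with
    | mem y hy =>
      obtain ⟨j, rfl⟩ := hy
      rw [hx j, map_sum]
      refine Finset.sum_eq_zero fun l _ => ?_
      rw [LinearMap.baseChange_tmul, (Submodule.Quotient.mk_eq_zero _).2 (Submodule.subset_span ⟨⟨j, l⟩, rfl⟩) |>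
        fun h => (show q (x j l) = 0 from h), TensorProduct.tmul_zero]
    | zero => simp
    | add a b _ _ ha hb => rw [map_add, ha, hb, add_zero]
    | smul a b _ hb => rw [map_smul, hb, smul_zero]
  choose K' hK' hsub using hloc
  have htop : (⨆ i, K' i) = ⊤ := by
    rw [← Submodule.Quotient.subsingleton_iff]
    suffices h : ∀ y : K ⧸ ⨆ i, K' i, y = 0 from ⟨fun u v => by rw [h u, h v]⟩
    intro y
    refine MultType.eq_zero_of_charts ht fun f hf => ?_
    obtain ⟨j, rfl⟩ : ∃ j : t, (c j).f = f := ⟨⟨f, hf⟩, hcf ⟨f, hf⟩⟩
    refine (c j).exists_pow_smul_eq_zero ?_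
    obtain ⟨y, rfl⟩ := Submodule.mkQ_surjective _ y
    have h0 : (1 : (c j).R') ⊗ₜ[R] (K' j).mkQ y = 0 := (hsub j).elim _ _
    have := congrArg (LinearMap.lTensor (c j).R' (Submodule.factor (le_iSup K' j))) h0
    simpa using this
  have hfg : (⊤ : Submodule R K).FG := htop ▸ Submodule.fg_iSup _ hK'
  exact Module.Finite.iff_fg.1 ⟨hfg⟩

theorem etale_dual_of_isMultType (hA : IsMultType R A) [Coalgebra.IsCocomm R A] [Module.Finite R A]
    [Module.Projective R A] : Algebra.Etale R (D R A) := by
  classical
  haveI : Module.FinitePresentation R (D R A) := Module.finitePresentation_of_projective R _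
  haveI : Algebra.FinitePresentation R (D R A) := Algebra.FinitePresentation.of_finitePresentation _ _
  haveI : Algebra.FormallyUnramified R (D R A) := by
    obtain ⟨s, hs, hc⟩ := MultType.exists_charts hA
    refine ⟨⟨fun u v => ?_⟩⟩
    suffices h : ∀ x : Ω[D R A⁄R], x = 0 by rw [h u, h v]
    intro x
    refine MultType.eq_zero_of_charts hs fun f hf => ?_
    obtain ⟨c, rfl⟩ := hc f hf
    refine c.exists_pow_smul_eq_zero ?_
    rcases subsingleton_or_nontrivial c.R' with h | h
    · rw [Subsingleton.elim (1 : c.R') 0, TensorProduct.zero_tmul]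
    haveI := finite_of_equiv c.e
    obtain ⟨ε⟩ := exists_split_of_equiv R A c.R' c.e
    haveI : Algebra.Etale c.R' (c.R' ⊗[R] D R A) := Algebra.Etale.of_equiv ε.symm
    letI : Algebra (D R A) (c.R' ⊗[R] D R A) := Algebra.TensorProduct.rightAlgebra
    haveI : Algebra.IsPushout R c.R' (D R A) (c.R' ⊗[R] D R A) := inferInstance
    haveI : Subsingleton Ω[(c.R' ⊗[R] D R A)⁄c.R'] :=
      Algebra.FormallyUnramified.subsingleton_kaehlerDifferential
    exact (KaehlerDifferential.tensorKaehlerEquivBase R c.R' (D R A) (c.R' ⊗[R] D R A)).injective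
      (Subsingleton.elim _ _)
  exact Algebra.Etale.of_formallyUnramified_of_flat

theorem isIsotrivial_of_etale_dual [ConnectedSpace (PrimeSpectrum R)] [Coalgebra.IsCocomm R A] [Module.Finite R A]
    [Module.Projective R A] [Algebra.Etale R (D R A)] : IsIsotrivial R A := by
  obtain ⟨S, _, _, h1, h2, h3, h4, h5, n, ⟨e⟩⟩ := exists_connected_split (R := R) (D R A)
  exact ⟨S, inferInstance, inferInstance, h1, h2, h3, isDiag_of_split R A S e⟩

theorem isMultType_of_isIsotrivial (h : IsIsotrivial R A) : IsMultType R A := by
  obtain ⟨S, _, _, _, _, hff, hd⟩ := h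
  haveI := hff
  exact MultType.isMultType_of_ff S hd

end Groth.Agent.MultFinLib
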